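import Cfsg.Agent.Comp.T3D4.Act0
import Cfsg.Agent.Comp.T3D4.Act1
import Cfsg.Agent.Comp.T3D4.Act2
import Cfsg.Agent.Comp.T3D4.Main

set_option autoImplicit false
set_option maxRecDepth 100000
set_option Elab.async false

namespace Cfsg.Agent.Comp.T3D4

open Cfsg.Agent.Spec

theorem ha1 : ∀ i, i < P1.n → actL O S1 J P1 P2.n As1 i = true := (range_step (lo := 806) 13 (range_step (lo := 775) 31 (range_step (lo := 744) 31 (range_step (lo := 713) 31 (range_step (lo := 682) 31 (range_step (lo := 651) 31 (range_step (lo := 620) 31 (range_step (lo := 589) 31 (range_step (lo := 558) 31 (range_step (lo := 527) 31 (range_step (lo := 496) 31 (range_step (lo := 465) 31 (range_step (lo := 434) 31 (range_step (lo := 403) 31 (range_step (lo := 372) 31 (range_step (lo := 341) 31 (range_step (lo := 310) 31 (range_step (lo := 279) 31 (range_step (lo := 248) 31 (range_step (lo := 217) 31 (range_step (lo := 186) 31 (range_step (lo := 155) 31 (range_step (lo := 124) 31 (range_step (lo := 93) 31 (range_step (lo := 62) 31 (range_step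 (lo := 31) 31 (range_step (lo := 0) 31 range_start a1_0) a1_1) a1_2) a1_3) a1_4) a1_5) a1_6) a1_7) a1_8) a1_9) a1_10) a1_11) a1_12) a1_13) a1_14) a1_15) a1_16) a1_17) a1_18) a1_19) a1_20) a1_21) a1_22) a1_23) a1_24) a1_25) a1_26)
theorem ha2 : ∀ i, i < P2.n → actR O S2 J P2 As2 i = true := (range_step (lo := 17160) 39 (range_step (lo := 16770) 390 (range_step (lo := 16380) 390 (range_step (lo := 15990) 390 (range_step (lo := 15600) 390 (range_step (lo := 15210) 390 (range_step (lo := 14820) 390 (range_step (lo := 14430) 390 (range_step (lo := 14040) 390 (range_step (lo := 13650) 390 (range_step (lo := 13260) 390 (range_step (lo := 12870) 390 (range_step (lo := 12480) 390 (range_step (lo := 12090) 390 (range_step (lo := 11700) 390 (range_step (lo := 11310) 390 (range_step (lo := 10920) 390 (range_step (lo := 10530) 390 (range_step (lo := 10140) 390 (range_step (lo := 9750) 390 (range_step (lo := 9360) 390 (range_step (lo := 8970) 390 (range_step (lo := 8580) 390 (range_step (lo := 8190) 390 (range_step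 (lo := 7800) 390 (range_step (lo := 7410) 390 (range_step (lo := 7020) 390 (range_step (lo := 6630) 390 (range_step (lo := 6240) 390 (range_step (lo := 5850) 390 (range_step (lo := 5460) 390 (range_step (lo := 5070) 390 (range_step (lo := 4680) 390 (range_step (lo := 4290) 390 (range_step (lo := 3900) 390 (range_step (lo := 3510) 390 (range_step (lo := 3120) 390 (range_step (lo := 2730) 390 (range_step (lo := 2340) 390 (range_step (lo := 1950) 390 (range_step (lo := 1560) 390 (range_step (lo := 1170) 390 (range_step (lo := 780) 390 (range_step (lo := 390) 390 (range_step (lo := 0) 390 range_start a2_0) a2_1) a2_2) a2_3) a2_4) a2_5) a2_6) a2_7) a2_8) a2_9) a2_10) a2_11) a2_12) a2_13) a2_14) a2_15) a2_16) a2_17) a2_18) a2_19) a2_20) a2_21) a2_22) a2_23) a2_24) a2_25) a2_26) a2_27) a2_28) a2_29) a2_30) a2_31) a2_32) a2_33) a2_34) a2_35) a2_36) a2_37) a2_38) a2_39) a2_40) a2_41) a2_42) a2_43) a2_44)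
theorem hn : J.n = P2.n + P1.n := by decide
theorem model {F ι κ : Type*} [CommRing F] [Fintype ι] [DecidableEq ι] [Fintype κ] [DecidableEq κ]
    {dec : ℕ → F} (h : O.Sem dec) (σ1 : ι ≃ Fin S1.d) (σ2 : κ ≃ Fin S2.d) (gen : ℕ → GL ι F × GL κ F)
    (hg1 : ∀ j, j < J.m0 → ((gen j).1 : Matrix ι ι F) = mat dec S1 σ1 (nth As1 j))
    (hg2 : ∀ j, j < J.m0 → ((gen j).2 : Matrix κ κ F) = mat dec S2 σ2 (nth As2 j)) :
    J.Model ((vecLst h σ1 hl1 hp1).sum (vecLst h σ2 hl2 hp2) hn) gen ⊤ :=
  sum_model h σ1 σ2 hn hl1 hp1 hl2 hp2 hc ha1 ha2 gen hg1 hg2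

end Cfsg.Agent.Comp.T3D4
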